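import Cfsg.Agent.KFacts.RgdLieCharP
import Cfsg.Agent.KFacts.RgdSyl

/-!
# Radical `p`-subgroups of groups of Lie type of characteristic `p` (helper318)

* `Rad p K` : `K = O_p(N(K))`;
* `normalizer_index` : for a simple group with a filtered root group datum of characteristic `p` the normaliser of a
  radical `p`-subgroup `K ≠ 1` has index prime to `p` (it is a parabolic subgroup).
-/

set_option autoImplicit false

namespace Cfsg.Agent.H318.SpSix.Radical

open Subgroup Cfsg.Agent.ChevalleyStructure.CoxeterGeom Cfsg.Agent.Tits.Roots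
  Cfsg.Agent.Nodes.Reps Cfsg.Agent.Nodes.BNOf
  Cfsg.Agent.Nodes.Bruhat Cfsg.Agent.Nodes.OppDec Cfsg.Agent.Nodes.LeviDec Cfsg.Agent.Nodes.NormX
  Cfsg.Agent.KFacts.RgdPar Cfsg.Agent.KFacts.RgdCent
  Cfsg.Agent.KFacts.RgdEx Cfsg.Agent.KFacts.RgdVJ Cfsg.Agent.KFacts.RgdCharP
  Cfsg.Agent.KFacts.RgdBorelTits Cfsg.Agent.KFacts.RgdFilt

/-- `K` contains every `p`-subgroup which is normal in `N(K)` -/
def Rad (p : ℕ) {G : Type*} [Group G] (K : Subgroup G) : Prop :=
  ∀ M : Subgroup G, IsPGroup p M → M ≤ normalizer (K : Set G) →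
    (∀ g ∈ normalizer (K : Set G), ∀ m ∈ M, g * m * g⁻¹ ∈ M) → M ≤ K

/-- a radical subgroup is equal to every `p`-subgroup which contains it and is normalised by `N(K)` -/
theorem Rad.eq {p : ℕ} [Fact p.Prime] {G : Type*} [Group G] [Finite G] {K V : Subgroup G} (hK : Rad p K)
    (hV : IsPGroup p V) (hKV : K ≤ V) (hN : normalizer (K : Set G) ≤ normalizer (V : Set G)) : K = V := by
  by_contra hne
  have h1 : K.subgroupOf V < ⊤ := by
    rw [lt_top_iff_ne_top]
    intro h2
    rw [subgroupOf_eq_top] at h2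
    exact hne (le_antisymm hKV h2)
  have : Group.IsNilpotent V := hV.isNilpotent
  have h2 := Group.normalizerCondition_of_isNilpotent (G := V) _ h1
  obtain ⟨v, hv, hv'⟩ := SetLike.exists_of_lt h2
  apply hv'
  rw [mem_subgroupOf]
  have hvK : (v : G) ∈ normalizer (K : Set G) := by
    rw [mem_normalizer_iff]
    intro k
    constructor
    · intro hk
      have h3 := (mem_normalizer_iff.1 hv ⟨k, hKV hk⟩).1 hk
      exact h3
    · intro hk
      have hkV : k ∈ V := by
        have h4 : (v : G) * k * (v : G)⁻¹ ∈ V := hKV hk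
        have h5 : k = (v : G)⁻¹ * ((v : G) * k * (v : G)⁻¹) * v := by group
        rw [h5]
        exact mul_mem (mul_mem (inv_mem v.2) h4) v.2
      exact (mem_normalizer_iff.1 hv ⟨k, hkV⟩).2 hk
  refine hK (V ⊓ normalizer (K : Set G)) (hV.to_le inf_le_left) inf_le_right ?_ ⟨v.2, hvK⟩
  rintro g hg m ⟨hm, hm'⟩
  exact ⟨(mem_normalizer_iff.1 (hN hg) m).1 hm,
    (normalizer (K : Set G)).mul_mem ((normalizer (K : Set G)).mul_mem hg hm') ((normalizer (K : Set G)).inv_mem hg)⟩

/-- **The normaliser of a radical subgroup contains a Sylow subgroup.** -/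
theorem normalizer_index {p : ℕ} [Fact p.Prime] {G : Type*} [Group G] [Finite G] [IsSimpleGroup G]
    (hG : HasFilt p G) (hc : ∃ a b : G, a * b ≠ b * a) {K : Subgroup G} (hK : IsPGroup p K) (hK1 : K ≠ ⊥)
    (hR : Rad p K) : ¬ p ∣ (normalizer (K : Set G)).index := by
  obtain ⟨l, M, A, h, T, n, X, R, hW, hBT, hGG, hN, hconn, hX, hl⟩ := hG.data hc
  obtain ⟨g, J, hJ, h1, h2⟩ := hBT K hK hK1
  have hP : cj g (PJ M.toCoxeterSystem h T X J) ≤
      normalizer ((cj g (VJ M.toCoxeterSystem h X J) : Subgroup G) : Set G) := by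
    rw [normalizer_cj]
    exact cj_mono g (PJ_le_normalizer_VJ R J)
  have hKV : K = cj g (VJ M.toCoxeterSystem h X J) :=
    hR.eq ((isPGroup_VJ R J).map _) h1 (h2.trans hP)
  have hU : cj g (RGD.Sup X (RGD.Pos M.toCoxeterSystem h)) ≤ normalizer (K : Set G) := by
    rw [hKV]
    exact (cj_mono g (RGD.U_le_B.trans B_le_PJ)).trans hP
  have h3 : ¬ p ∣ (RGD.Sup X (RGD.Pos M.toCoxeterSystem h)).index := by
    have h4 := Cfsg.Agent.KFacts.RgdSyl.not_dvd_relIndex R
    rwa [hGG, relIndex_top_right] at h4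
  intro h4
  apply h3
  have h5 : (cj g (RGD.Sup X (RGD.Pos M.toCoxeterSystem h))).index =
      (RGD.Sup X (RGD.Pos M.toCoxeterSystem h)).index := index_map_equiv _ (MulAut.conj g)
  rw [← h5]
  exact h4.trans (index_dvd_of_le hU)

end Cfsg.Agent.H318.SpSix.Radical
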