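import Cfsg.Agent.S0243
import Cfsg.Agent.S0245
import Cfsg.Agent.S0246
import Cfsg.Agent.S0280
import Cfsg.Agent.S0293
import Cfsg.Agent.S0294
import Cfsg.Agent.S1059
import Cfsg.Agent.S1062
import Cfsg.Agent.S1063
import Cfsg.Agent.S1064
import Cfsg.Agent.S1065
import Cfsg.Agent.S1066
import Cfsg.Agent.S1067
import Cfsg.Agent.KFacts.RgdLieCharP

/-!
# The 2-part of the order of a group of Lie type of characteristic two (helper318)
-/

set_option autoImplicit false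

namespace Cfsg.Agent.H318.SpSix.TwoPart

open Cfsg Cfsg.Agent.KFacts.RgdLieCharP

theorem fact_of {a N m k : ℕ} (hm : Odd m) (hk : Odd k) (h : k * N = 2 ^ a * m) : N.factorization 2 = a := by
  have hN : N ≠ 0 := by
    rintro rfl
    have h1 : 2 ^ a * m ≠ 0 := by
      have := hm.pos
      positivity
    exact h1 (by rw [← h]; simp)
  have h1 : (k * N).factorization 2 = N.factorization 2 := by
    rw [Nat.factorization_mul hk.pos.ne' hN, Finsupp.add_apply,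
      Nat.factorization_eq_zero_of_not_dvd (by rw [← even_iff_two_dvd, Nat.not_even_iff_odd]; exact hk), zero_add]
  rw [← h1, h, Nat.factorization_mul (by positivity) hm.pos.ne', Finsupp.add_apply,
    Nat.factorization_eq_zero_of_not_dvd (n := m) (by rw [← even_iff_two_dvd, Nat.not_even_iff_odd]; exact hm), add_zero,
    Nat.Prime.factorization_pow Nat.prime_two, Finsupp.single_eq_same]

theorem odd_prod {ι : Type*} (s : Finset ι) (f : ι → ℕ) (h : ∀ i ∈ s, Odd (f i)) : Odd (∏ i ∈ s, f i) := by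
  classical
  induction s using Finset.induction_on with
  | empty => simp
  | insert a s ha ih =>
    rw [Finset.prod_insert ha]
    exact (h a (Finset.mem_insert_self _ _)).mul (ih fun i hi => h i (Finset.mem_insert_of_mem hi))

theorem odd_gcd {a b : ℕ} (h : Odd b) : Odd (Nat.gcd a b) := by
  obtain ⟨c, hc⟩ := Nat.gcd_dvd_right a b
  rw [hc] at h
  exact (Nat.odd_mul.1 h).1

variable {f : ℕ}

theorem even_q (hf : 1 ≤ f) {k : ℕ} (hk : 1 ≤ k) : Even ((2 ^ f) ^ k) := by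
  rw [← pow_mul]
  exact (Nat.even_pow.2 ⟨even_two, by positivity⟩)

theorem odd_sub (hf : 1 ≤ f) {k : ℕ} (hk : 1 ≤ k) : Odd ((2 ^ f) ^ k - 1) := by
  refine Nat.Even.sub_odd ?_ (even_q hf hk) odd_one
  exact Nat.one_le_pow _ _ (by positivity)

theorem odd_add (hf : 1 ≤ f) {k : ℕ} (hk : 1 ≤ k) : Odd ((2 ^ f) ^ k + 1) := (even_q hf hk).add_one

theorem odd_sub' (hf : 1 ≤ f) : Odd (2 ^ f - 1) := by
  have := odd_sub hf (k := 1) le_rfl
  rwa [pow_one] at this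

theorem odd_add' (hf : 1 ≤ f) : Odd (2 ^ f + 1) := by
  have := odd_add hf (k := 1) le_rfl
  rwa [pow_one] at this

theorem two_pow_of_char {F : Type*} [Field F] [Fintype F] [CharP F 2] : ∃ f, 1 ≤ f ∧ Fintype.card F = 2 ^ f := by
  obtain ⟨n, -, hn⟩ := FiniteField.card F 2
  exact ⟨n, n.pos, hn⟩

theorem card_psl {F : Type*} [Field F] [Fintype F] (hf : 1 ≤ f) (hF : Fintype.card F = 2 ^ f) (n : ℕ) (hn : 2 ≤ n) :
    (Nat.card (Matrix.ProjectiveSpecialLinearGroup (Fin n) F)).factorization 2 = f * (n * (n - 1) / 2) := by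
  have h := Cfsg.Agent.S0243.result hF n hn
  have h1 : ∏ i : Fin n, ((2 ^ f) ^ n - (2 ^ f) ^ (i : ℕ)) =
      2 ^ (f * (n * (n - 1) / 2)) * ∏ i : Fin n, ((2 ^ f) ^ (n - (i : ℕ)) - 1) := by
    have h2 : ∀ i : Fin n, (2 ^ f) ^ n - (2 ^ f) ^ (i : ℕ) = (2 ^ f) ^ (i : ℕ) * ((2 ^ f) ^ (n - (i : ℕ)) - 1) := by
      intro i
      rw [Nat.mul_sub, ← pow_add, mul_one]
      congr 2
      have := i.2
      omega
    rw [Finset.prod_congr rfl fun i _ => h2 i, Finset.prod_mul_distrib]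
    congr 1
    rw [Finset.prod_pow_eq_pow_sum, ← pow_mul]
    congr 2
    rw [Finset.sum_fin_eq_sum_range]
    rw [← Finset.sum_range_id]
    exact Finset.sum_congr rfl fun i hi => by rw [dif_pos (Finset.mem_range.1 hi)]
  rw [h1] at h
  rw [← mul_assoc] at h
  refine fact_of ?_ ?_ h
  · refine odd_prod _ _ fun i _ => odd_sub hf ?_
    have := i.2
    omega
  · exact (odd_gcd (odd_sub' hf)).mul (odd_sub' hf)

theorem card_psu {F : Type*} [Field F] [Fintype F] (hf : 1 ≤ f) {q : ℕ} (hq : q = 2 ^ f) (hF : Fintype.card F = q ^ 2)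
    (n : ℕ) (hn : 2 ≤ n) : (Nat.card (Cfsg.PSU n F q)).factorization 2 = f * (n * (n - 1) / 2) := by
  have h := Cfsg.Agent.S0280.result hF n hn
  subst hq
  rw [← mul_assoc, ← pow_mul] at h
  refine fact_of ?_ ?_ h
  · refine odd_prod _ _ fun i _ => ?_
    split
    · exact odd_add hf (by omega)
    · exact odd_sub hf (by omega)
  · exact (odd_gcd (odd_add' hf)).mul (odd_add' hf)

theorem card_psp {F : Type*} [Field F] [Fintype F] (hf : 1 ≤ f) (hF : Fintype.card F = 2 ^ f) (m : ℕ) (hm : 1 ≤ m) :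
    (Nat.card (PSp m F)).factorization 2 = f * m ^ 2 := by
  have h1 := Cfsg.Agent.S0245.result hF m
  have h2 := Cfsg.Agent.S0246.result hF m hm
  have h4 := Subgroup.card_mul_index (Subgroup.center (Matrix.symplecticGroup (Fin m) F))
  rw [h2, h1] at h4
  have h5 : (Subgroup.center (Matrix.symplecticGroup (Fin m) F)).index = Nat.card (PSp m F) := rfl
  rw [h5, ← pow_mul] at h4
  exact fact_of (odd_prod _ _ fun i _ => odd_sub hf (by omega)) (odd_gcd (odd_sub' hf)) h4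

theorem card_plus {F : Type*} [Field F] [Fintype F] (hf : 1 ≤ f) (hF : Fintype.card F = 2 ^ f) (m : ℕ) (hm : 4 ≤ m) :
    (Nat.card (POmega F (quadFormPlus m F))).factorization 2 = f * (m * (m - 1)) := by
  have h := Cfsg.Agent.S0293.result hF m hm
  rw [mul_assoc ((2 ^ f) ^ (m * (m - 1))), ← pow_mul 2 f (m * (m - 1))] at h
  exact fact_of ((odd_sub hf (by omega)).mul (odd_prod _ _ fun i _ => odd_sub hf (by omega)))
    (odd_gcd (odd_sub hf (by omega))) h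

theorem card_minus {F : Type*} [Field F] [Fintype F] (hf : 1 ≤ f) (hF : Fintype.card F = 2 ^ f) (m : ℕ) (hm : 4 ≤ m)
    (a b : F) (hab : ∀ z₁ z₂ : F, z₁ ^ 2 + a * z₁ * z₂ + b * z₂ ^ 2 = 0 → z₁ = 0 ∧ z₂ = 0) :
    (Nat.card (POmega F (quadFormMinus (m - 1) F a b))).factorization 2 = f * (m * (m - 1)) := by
  have h := Cfsg.Agent.S0294.result hF m hm a b hab
  rw [mul_assoc ((2 ^ f) ^ (m * (m - 1))), ← pow_mul 2 f (m * (m - 1))] at h
  exact fact_of ((odd_add hf (by omega)).mul (odd_prod _ _ fun i _ => odd_sub hf (by omega)))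
    (odd_gcd (odd_add hf (by omega))) h

theorem fact_q {a N m k : ℕ} (hm : Odd m) (hk : Odd k) (h : k * N = (2 ^ f) ^ a * m) : N.factorization 2 = f * a := by
  rw [← pow_mul] at h
  exact fact_of hm hk h

theorem card_g2 {F : Type*} [Field F] [Fintype F] (hf : 1 ≤ f) (hF : Fintype.card F = 2 ^ f) :
    (Nat.card (Cfsg.Lie.chevG2.group F)).factorization 2 = f * 6 := by
  have h := Cfsg.Agent.S1059.result hF
  refine fact_q (a := 6) (m := ((2 ^ f) ^ 2 - 1) * ((2 ^ f) ^ 6 - 1)) ?_ odd_one (by rw [one_mul, h]; ring)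
  exact (odd_sub hf (by norm_num)).mul (odd_sub hf (by norm_num))

theorem card_f4 {F : Type*} [Field F] [Fintype F] (hf : 1 ≤ f) (hF : Fintype.card F = 2 ^ f) :
    (Nat.card (Cfsg.Lie.chevF4.group F)).factorization 2 = f * 24 := by
  have h := Cfsg.Agent.S1062.result hF
  refine fact_q (a := 24) (m := ((2 ^ f) ^ 2 - 1) * ((2 ^ f) ^ 6 - 1) * ((2 ^ f) ^ 8 - 1) * ((2 ^ f) ^ 12 - 1)) ?_ odd_one
    (by rw [one_mul, h]; ring)
  exact (((odd_sub hf (by norm_num)).mul (odd_sub hf (by norm_num))).mul (odd_sub hf (by norm_num))).mul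
    (odd_sub hf (by norm_num))

theorem card_e6 {F : Type*} [Field F] [Fintype F] (hf : 1 ≤ f) (hF : Fintype.card F = 2 ^ f) :
    (Nat.card (Cfsg.Lie.chevE6.group F)).factorization 2 = f * 36 := by
  have h := Cfsg.Agent.S1063.result hF
  refine fact_q (a := 36) (m := ((2 ^ f) ^ 2 - 1) * ((2 ^ f) ^ 5 - 1) * ((2 ^ f) ^ 6 - 1) * ((2 ^ f) ^ 8 - 1) *
    ((2 ^ f) ^ 9 - 1) * ((2 ^ f) ^ 12 - 1)) ?_ (odd_gcd (odd_sub' hf)) (by rw [h]; ring)
  exact (((((odd_sub hf (by norm_num)).mul (odd_sub hf (by norm_num))).mul (odd_sub hf (by norm_num))).mul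
    (odd_sub hf (by norm_num))).mul (odd_sub hf (by norm_num))).mul (odd_sub hf (by norm_num))

theorem card_e7 {F : Type*} [Field F] [Fintype F] (hf : 1 ≤ f) (hF : Fintype.card F = 2 ^ f) :
    (Nat.card (Cfsg.Lie.chevE7.group F)).factorization 2 = f * 63 := by
  have h := Cfsg.Agent.S1064.result hF
  refine fact_q (a := 63) (m := ((2 ^ f) ^ 2 - 1) * ((2 ^ f) ^ 6 - 1) * ((2 ^ f) ^ 8 - 1) * ((2 ^ f) ^ 10 - 1) *
    ((2 ^ f) ^ 12 - 1) * ((2 ^ f) ^ 14 - 1) * ((2 ^ f) ^ 18 - 1)) ?_ (odd_gcd (odd_sub' hf)) (by rw [h]; ring)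
  exact ((((((odd_sub hf (by norm_num)).mul (odd_sub hf (by norm_num))).mul (odd_sub hf (by norm_num))).mul
    (odd_sub hf (by norm_num))).mul (odd_sub hf (by norm_num))).mul (odd_sub hf (by norm_num))).mul
    (odd_sub hf (by norm_num))

theorem card_e8 {F : Type*} [Field F] [Fintype F] (hf : 1 ≤ f) (hF : Fintype.card F = 2 ^ f) :
    (Nat.card (Cfsg.Lie.chevE8.group F)).factorization 2 = f * 120 := by
  have h := Cfsg.Agent.S1065.result hF
  refine fact_q (a := 120) (m := ((2 ^ f) ^ 2 - 1) * ((2 ^ f) ^ 8 - 1) * ((2 ^ f) ^ 12 - 1) * ((2 ^ f) ^ 14 - 1) *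
    ((2 ^ f) ^ 18 - 1) * ((2 ^ f) ^ 20 - 1) * ((2 ^ f) ^ 24 - 1) * ((2 ^ f) ^ 30 - 1)) ?_ odd_one
    (by rw [one_mul, h]; ring)
  exact (((((((odd_sub hf (by norm_num)).mul (odd_sub hf (by norm_num))).mul (odd_sub hf (by norm_num))).mul
    (odd_sub hf (by norm_num))).mul (odd_sub hf (by norm_num))).mul (odd_sub hf (by norm_num))).mul
    (odd_sub hf (by norm_num))).mul (odd_sub hf (by norm_num))

theorem card_twE6 {K : Type*} [Field K] [Fintype K] (hf : 1 ≤ f) {q : ℕ} (hq : q = 2 ^ f) (hK : Fintype.card K = q ^ 2) :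
    (Nat.card (Cfsg.Lie.twistedE6 K q)).factorization 2 = f * 36 := by
  subst hq
  have h := Cfsg.Agent.S1066.result ((Nat.prime_two.isPrimePow.pow (by omega))) hK
  refine fact_q (a := 36) (m := ((2 ^ f) ^ 2 - 1) * ((2 ^ f) ^ 5 + 1) * ((2 ^ f) ^ 6 - 1) * ((2 ^ f) ^ 8 - 1) *
    ((2 ^ f) ^ 9 + 1) * ((2 ^ f) ^ 12 - 1)) ?_ (odd_gcd (odd_add' hf)) (by rw [h]; ring)
  exact (((((odd_sub hf (by norm_num)).mul (odd_add hf (by norm_num))).mul (odd_sub hf (by norm_num))).mul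
    (odd_sub hf (by norm_num))).mul (odd_add hf (by norm_num))).mul (odd_sub hf (by norm_num))

theorem card_twD4 {K : Type*} [Field K] [Fintype K] (hf : 1 ≤ f) {q : ℕ} (hq : q = 2 ^ f) (hK : Fintype.card K = q ^ 3) :
    (Nat.card (Cfsg.Lie.twistedD4 K q)).factorization 2 = f * 12 := by
  subst hq
  have h := Cfsg.Agent.S1067.result ((Nat.prime_two.isPrimePow.pow (by omega))) hK
  refine fact_q (a := 12) (m := ((2 ^ f) ^ 2 - 1) * ((2 ^ f) ^ 6 - 1) * ((2 ^ f) ^ 8 + (2 ^ f) ^ 4 + 1)) ?_ odd_one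
    (by rw [one_mul, h]; ring)
  exact ((odd_sub hf (by norm_num)).mul (odd_sub hf (by norm_num))).mul
    ((even_q hf (by norm_num)).add (even_q hf (by norm_num))).add_one

/-- a root of a power of two -/
theorem pow_of_pow {q k n : ℕ} (hk : k ≠ 0) (h : q ^ k = 2 ^ n) (hn : 1 ≤ n) : ∃ f, 1 ≤ f ∧ q = 2 ^ f := by
  have h1 : q ∣ 2 ^ n := h ▸ dvd_pow_self q hk
  obtain ⟨f, -, hf⟩ := (Nat.dvd_prime_pow Nat.prime_two).1 h1
  refine ⟨f, ?_, hf⟩
  rcases Nat.eq_zero_or_pos f with rfl | h2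
  · rw [hf, pow_zero, one_pow] at h
    have : 2 ≤ 2 ^ n := by
      calc 2 = 2 ^ 1 := rfl
        _ ≤ 2 ^ n := Nat.pow_le_pow_right (by norm_num) hn
    omega
  · exact h2

universe u

/-- **The 2-parts of the orders.** -/
theorem two_part {K : Type u} [Group K] (hK : IsLieFilt 2 K) :
    (∃ (F : Type) (_ : Field F) (_ : Fintype F) (f n : ℕ), 1 ≤ f ∧ Fintype.card F = 2 ^ f ∧ 2 ≤ n ∧
      Nonempty (K ≃* Matrix.ProjectiveSpecialLinearGroup (Fin n) F) ∧
      (Nat.card K).factorization 2 = f * (n * (n - 1) / 2)) ∨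
    (∃ (F : Type) (_ : Field F) (_ : Fintype F) (f n q : ℕ), 1 ≤ f ∧ q = 2 ^ f ∧ Fintype.card F = q ^ 2 ∧ 3 ≤ n ∧
      Nonempty (K ≃* PSU n F q) ∧ (Nat.card K).factorization 2 = f * (n * (n - 1) / 2)) ∨
    (∃ f m : ℕ, 1 ≤ f ∧ 2 ≤ m ∧ (Nat.card K).factorization 2 = f * m ^ 2) ∨
    (∃ f m : ℕ, 1 ≤ f ∧ 4 ≤ m ∧ (Nat.card K).factorization 2 = f * (m * (m - 1))) ∨
    (∃ f : ℕ, 1 ≤ f ∧ ((Nat.card K).factorization 2 = f * 6 ∨ (Nat.card K).factorization 2 = f * 24 ∨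
      (Nat.card K).factorization 2 = f * 36 ∨ (Nat.card K).factorization 2 = f * 63 ∨
      (Nat.card K).factorization 2 = f * 120 ∨ (Nat.card K).factorization 2 = f * 12)) := by
  rcases hK with h | h | h | h | h | h | h | h
  · obtain ⟨F, _, _, _, n, hn, -, ⟨e⟩⟩ := h
    obtain ⟨f, hf, hF⟩ := two_pow_of_char (F := F)
    exact Or.inl ⟨F, _, _, f, n, hf, hF, hn, ⟨e⟩, by rw [Nat.card_congr e.toEquiv]; exact card_psl hf hF n hn⟩
  · obtain ⟨F, _, _, _, m, hm, -, ⟨e⟩⟩ := h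
    obtain ⟨f, hf, hF⟩ := two_pow_of_char (F := F)
    exact Or.inr (Or.inr (Or.inl ⟨f, m, hf, hm, by rw [Nat.card_congr e.toEquiv]; exact card_psp hf hF m (by omega)⟩))
  · obtain ⟨F, _, _, _, n, q, hFq, hn, -, ⟨e⟩⟩ := h
    obtain ⟨f, hf, hF⟩ := two_pow_of_char (F := F)
    obtain ⟨g, hg, hq⟩ := pow_of_pow two_ne_zero (hFq.symm.trans hF) hf
    exact Or.inr (Or.inl ⟨F, _, _, g, n, q, hg, hq, hFq, hn, ⟨e⟩, by
      rw [Nat.card_congr e.toEquiv]; exact card_psu hg hq hFq n (by omega)⟩)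
  · obtain ⟨F, _, _, _, m, hm, ho, -⟩ := h
    obtain ⟨f, hf, hF⟩ := two_pow_of_char (F := F)
    exfalso
    rw [hF] at ho
    have h1 := even_q (f := f) hf (k := 1) le_rfl
    rw [pow_one] at h1
    exact (Nat.not_odd_iff_even.2 h1) ho
  · obtain ⟨F, _, _, _, m, hm, ⟨e⟩⟩ := h
    obtain ⟨f, hf, hF⟩ := two_pow_of_char (F := F)
    exact Or.inr (Or.inr (Or.inr (Or.inl ⟨f, m, hf, hm, by rw [Nat.card_congr e.toEquiv]; exact card_plus hf hF m hm⟩)))
  · obtain ⟨F, _, _, _, m, a, b, hm, hab, ⟨e⟩⟩ := h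
    obtain ⟨f, hf, hF⟩ := two_pow_of_char (F := F)
    exact Or.inr (Or.inr (Or.inr (Or.inl ⟨f, m, hf, hm, by
      rw [Nat.card_congr e.toEquiv]; exact card_minus hf hF m hm a b hab⟩)))
  · obtain ⟨F, _, _, _, h⟩ := h
    obtain ⟨f, hf, hF⟩ := two_pow_of_char (F := F)
    refine Or.inr (Or.inr (Or.inr (Or.inr ⟨f, hf, ?_⟩)))
    rcases h with ⟨-, ⟨e⟩⟩ | h | h | h | h
    rotate_left
    all_goals try obtain ⟨e⟩ := h
    rotate_right
    all_goals rw [Nat.card_congr e.toEquiv]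
    · exact Or.inl (card_g2 hf hF)
    · exact Or.inr (Or.inl (card_f4 hf hF))
    · exact Or.inr (Or.inr (Or.inl (card_e6 hf hF)))
    · exact Or.inr (Or.inr (Or.inr (Or.inl (card_e7 hf hF))))
    · exact Or.inr (Or.inr (Or.inr (Or.inr (Or.inl (card_e8 hf hF)))))
  · obtain ⟨F, _, _, _, q, -, h⟩ := h
    obtain ⟨f, hf, hF⟩ := two_pow_of_char (F := F)
    rcases h with ⟨hFq, ⟨e⟩⟩ | ⟨hFq, ⟨e⟩⟩
    · obtain ⟨g, hg, hq⟩ := pow_of_pow two_ne_zero (hFq.symm.trans hF) hf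
      refine Or.inr (Or.inr (Or.inr (Or.inr ⟨g, hg, Or.inr (Or.inr (Or.inl ?_))⟩)))
      rw [Nat.card_congr e.toEquiv]
      exact card_twE6 hg hq hFq
    · obtain ⟨g, hg, hq⟩ := pow_of_pow three_ne_zero (hFq.symm.trans hF) hf
      refine Or.inr (Or.inr (Or.inr (Or.inr ⟨g, hg, Or.inr (Or.inr (Or.inr (Or.inr (Or.inr ?_))))⟩)))
      rw [Nat.card_congr e.toEquiv]
      exact card_twD4 hg hq hFq

end Cfsg.Agent.H318.SpSix.TwoPart
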