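import Cfsg.Agent.H336.SpSix.Basic
import Cfsg.Agent.H318.SpSix.Radical
import Cfsg.Agent.H318.SpSix.TwoPart

/-!
# `A` is a radical subgroup; the 2-part of `|K|` (helper318)
-/

set_option autoImplicit false

namespace Cfsg.Agent.H318.SpSix.RadSit

open Subgroup Cfsg Cfsg.Agent.H336.SpSix Cfsg.Agent.H318.SpSix.Radical Cfsg.Agent.KFacts.RgdLieCharP
  Cfsg.Agent.H318.SpSix.TwoPart

/-- A subgroup of a group, transitively permuted, self-centralising for 2-elements, is radical. -/
theorem rad_of_trans {K : Type*} [Group K] [Finite K] {p : ℕ} [Fact p.Prime] {A : Subgroup K} (hA : IsPGroup p A)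
    (hA1 : A ≠ ⊥)
    (htr : ∀ a ∈ A, a ≠ 1 → ∀ b ∈ A, b ≠ 1 → ∃ k ∈ normalizer (A : Set K), k * a * k⁻¹ = b)
    (hc : ∀ x : K, (∀ a ∈ A, x * a = a * x) → ∀ n : ℕ, x ^ p ^ n = 1 → x ∈ A) : Rad p A := by
  intro M hM hMN hMn
  -- the fixed points of `M` in `A`
  let : MulDistribMulAction M A :=
    MulDistribMulAction.compHom A
      ((MulAut.conjNormal (H := A.subgroupOf (normalizer (A : Set K)))).comp (inclusion hMN) |> fun f =>
        ((MulAut.congr (subgroupOfEquivOfLe le_normalizer)).toMonoidHom.comp f : M →* MulAut A))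
  have hact : ∀ (m : M) (a : A), ((m • a : A) : K) = m * a * (m : K)⁻¹ := fun m a => rfl
  have h1 : ∃ b ∈ MulAction.fixedPoints M A, (1 : A) ≠ b := by
    refine hM.exists_fixed_point_of_prime_dvd_card_of_fixed_point A ?_ (a := 1) ?_
    · obtain ⟨n, hn⟩ := hA.exists_card_eq
      rw [hn]
      rcases Nat.eq_zero_or_pos n with rfl | h
      · exact absurd (card_eq_one.1 (by rw [hn, pow_zero])) hA1
      · exact dvd_pow_self p h.ne'
    · intro m
      exact smul_one m
  obtain ⟨b, hb, hb1⟩ := h1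
  have hb2 : ∀ m ∈ M, m * (b : K) = b * m := fun m hm => by
    have := congrArg Subtype.val (hb ⟨m, hm⟩)
    rw [hact, mul_inv_eq_iff_eq_mul] at this
    exact this
  intro x hx
  obtain ⟨n, hn⟩ := hM ⟨x, hx⟩
  refine hc x ?_ n (congrArg Subtype.val hn)
  intro a ha
  by_cases ha1 : a = 1
  · rw [ha1, mul_one, one_mul]
  obtain ⟨k, hk, hk'⟩ := htr b b.2 (fun h => hb1 (Subtype.ext h.symm)) a ha ha1
  have h2 : k⁻¹ * x * k ∈ M := by
    have := hMn k⁻¹ (inv_mem hk) x hx
    rwa [inv_inv] at this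
  rw [← hk']
  calc x * (k * b * k⁻¹) = k * ((k⁻¹ * x * k) * b) * k⁻¹ := by group
    _ = k * (b * (k⁻¹ * x * k)) * k⁻¹ := by rw [hb2 _ h2]
    _ = k * b * k⁻¹ * x := by group

variable {K : Type*} [Group K] {th : V → K} {O K0 : Subgroup K}

theorem exists_ne : ∃ v : V, v ≠ 0 := ⟨Pi.single (Sum.inl 0) 1, fun h => by
  have := congrFun h (Sum.inl 0)
  simp at this⟩

theorem A_ne_bot (h : Sit th O K0) : h.A ≠ ⊥ := by
  intro h1
  have h2 := h.card_A
  rw [h1, card_bot] at h2
  exact absurd h2 (by norm_num)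

theorem rad [Finite K] (h : Sit th O K0) : Rad 2 h.A := by
  have : Fact (Nat.Prime 2) := ⟨Nat.prime_two⟩
  refine rad_of_trans h.isPGroup_A (A_ne_bot h) ?_ ?_
  · rintro _ ⟨u, rfl⟩ hu _ ⟨v, rfl⟩ hv
    obtain ⟨k, hk, hk'⟩ := h.exists_conj (u := u) (v := v) (fun e : u = 0 => hu (by rw [e, h.zero]))
      (fun e : v = 0 => hv (by rw [e, h.zero]))
    exact ⟨k, h.K0_le hk, hk'⟩
  · intro x hx n hn
    exact h.mem_of_sq (fun v => hx _ ⟨v, rfl⟩) hn

theorem card_ker [Finite K] (h : Sit th O K0) : Nat.card h.rep.ker ∣ Nat.card O * 64 := by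
  classical
  -- `O × A → C(A)` is surjective
  let E : Subgroup K := centralizer (h.A : Set K)
  have hO : O ≤ E := fun x hx => by
    rw [mem_centralizer_iff]
    rintro _ ⟨v, rfl⟩
    exact (h.oc x hx v).symm
  have hA : h.A ≤ E := by
    rintro _ ⟨u, rfl⟩
    rw [mem_centralizer_iff]
    rintro _ ⟨v, rfl⟩
    exact h.comm v u
  have hcomm : ∀ (x : O) (y : h.A), Commute (O.subtype x) (h.A.subtype y) := by
    rintro ⟨x, hx⟩ ⟨_, v, rfl⟩
    exact h.oc x hx v
  let f : O × h.A →* K := MonoidHom.noncommCoprod O.subtype h.A.subtype hcomm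
  have hf : ∀ p : O × h.A, f p = p.1 * p.2 := fun p => rfl
  have hr : f.range = E := by
    apply le_antisymm
    · rintro _ ⟨p, rfl⟩
      rw [hf]
      exact mul_mem (hO p.1.2) (hA p.2.2)
    · intro x hx
      obtain ⟨o, ho, v, rfl⟩ := h.cent x fun v => (mem_centralizer_iff.1 hx _ ⟨v, rfl⟩).symm
      exact ⟨(⟨o, ho⟩, ⟨_, h.th_mem v⟩), rfl⟩
  have h1 : Nat.card f.range ∣ Nat.card O * 64 := by
    have := Subgroup.card_range_dvd f
    rwa [Nat.card_prod, h.card_A] at this
  rw [hr] at h1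
  refine dvd_trans ?_ h1
  have h2 : h.rep.ker.map (normalizer (h.A : Set K)).subtype ≤ E := by
    rintro _ ⟨n, hn, rfl⟩
    rw [SetLike.mem_coe, MonoidHom.mem_ker, h.rep_eq_one] at hn
    rw [mem_centralizer_iff]
    rintro _ ⟨v, rfl⟩
    exact (hn v).symm
  have h3 := Subgroup.card_dvd_of_le h2
  rwa [Nat.card_congr (equivMapOfInjective _ _ (subtype_injective _)).toEquiv.symm] at h3

theorem card_normalizer [Finite K] (h : Sit th O K0) :
    Nat.card (normalizer (h.A : Set K)) ∣ 2 ^ 15 * (2835 * Nat.card O) := by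
  have h1 : Nat.card (normalizer (h.A : Set K)) = Nat.card S * Nat.card h.rep.ker := by
    rw [← Nat.card_congr (QuotientGroup.quotientKerEquivOfSurjective _ h.rep_surjective).toEquiv,
      ← Subgroup.card_eq_card_quotient_mul_card_subgroup]
  rw [h1, card_S]
  refine (Nat.mul_dvd_mul_left _ (card_ker h)).trans ?_
  rw [show 1451520 * (Nat.card O * 64) = 2 ^ 15 * (2835 * Nat.card O) by ring]

/-- **The 2-part of the order of `K`.** -/
theorem two_part_eq [Finite K] [IsSimpleGroup K] (hK : IsLieFilt 2 K) (hc : ∃ a b : K, a * b ≠ b * a)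
    (h : Sit th O K0) : (Nat.card K).factorization 2 = 15 := by
  have : Fact (Nat.Prime 2) := ⟨Nat.prime_two⟩
  have h1 := normalizer_index (hasFilt_of_lie hK) hc h.isPGroup_A (A_ne_bot h) (rad h)
  have h2 := (normalizer (h.A : Set K)).card_mul_index
  rw [← h2, Nat.factorization_mul Nat.card_pos.ne' index_ne_zero_of_finite, Finsupp.add_apply,
    Nat.factorization_eq_zero_of_not_dvd h1, add_zero]
  apply le_antisymm
  · have h3 := (Nat.factorization_le_iff_dvd Nat.card_pos.ne'
      (by have := h.odd.pos.ne'; positivity)).2 (card_normalizer h) 2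
    refine h3.trans ?_
    have h4 : Odd (2835 * Nat.card O) := (show Odd 2835 by decide).mul h.odd
    have h5 := fact_of (a := 15) (N := 2 ^ 15 * (2835 * Nat.card O)) (m := 2835 * Nat.card O) (k := 1) h4 odd_one
      (one_mul _)
    exact h5.le
  · have h3 := (Nat.factorization_le_iff_dvd (by norm_num) Nat.card_pos.ne').2 h.card_dvd_normalizer 2
    refine le_trans ?_ h3
    have h5 := fact_of (a := 15) (N := 1451520 * 64) (m := 2835) (k := 1) (by decide) odd_one (by norm_num)
    exact h5.ge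

end Cfsg.Agent.H318.SpSix.RadSit
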