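import Cfsg.Agent.H336.SpSix.Basic
import Cfsg.Agent.LieClassical.HermSimple
import Cfsg.Agent.H349.Transv

/-!
# No `Sit` in `L₆(2)` and `U₆(2)` (helper318)

All elements of `A#` would be transvections.
-/

set_option autoImplicit false

namespace Cfsg.Agent.H318.SpSix.Transv

open Subgroup Cfsg Cfsg.Agent.H336.SpSix Matrix

/-! ### a product of two transvections -/

section TT

variable {F V : Type*} [Field F] [AddCommGroup V] [Module F V]

theorem prop_of_ker {f g : V →ₗ[F] F} (hf : f ≠ 0) (h : ∀ x, f x = 0 → g x = 0) : ∃ a : F, g = a • f := by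
  obtain ⟨y, hy⟩ : ∃ y, f y ≠ 0 := by
    by_contra hc
    push Not at hc
    exact hf (LinearMap.ext hc)
  refine ⟨g y / f y, LinearMap.ext fun x => ?_⟩
  have h1 := h (x - (f x / f y) • y) (by
    rw [map_sub, map_smul, smul_eq_mul, div_mul_cancel₀ _ hy, sub_self])
  rw [map_sub, map_smul, smul_eq_mul, sub_eq_zero] at h1
  rw [LinearMap.smul_apply, smul_eq_mul, h1]
  ring

theorem TT [FiniteDimensional F V] (hn : 4 ≤ Module.finrank F V) {f g h : V →ₗ[F] F} {u v w : V} {c : F}
    (hu : u ≠ 0) (hf : f ≠ 0) (hg : g ≠ 0)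
    (H : ∀ x, (x + g x • v) + f (x + g x • v) • u = c • (x + h x • w)) :
    (∃ a : F, v = a • u) ∨ ∃ a : F, g = a • f := by
  -- the scalar
  have hc : c = 1 := by
    let L : V →ₗ[F] (Fin 3 → F) := LinearMap.pi ![f, g, h]
    have h1 : LinearMap.ker L ≠ ⊥ := LinearMap.ker_ne_bot_of_finrank_lt (by
      rw [Module.finrank_fintype_fun_eq_card, Fintype.card_fin]; omega)
    obtain ⟨x, hx, hx0⟩ := Submodule.exists_mem_ne_zero_of_ne_bot h1
    have h2 : ∀ i, L x i = 0 := fun i => by rw [LinearMap.mem_ker.1 hx]; rfl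
    have hfx : f x = 0 := h2 0
    have hgx : g x = 0 := h2 1
    have hhx : h x = 0 := h2 2
    have h3 := H x
    rw [hgx, zero_smul, add_zero, hfx, zero_smul, add_zero, hhx, zero_smul, add_zero] at h3
    have h4 : (1 - c) • x = 0 := by rw [sub_smul, one_smul, ← h3, sub_self]
    exact (sub_eq_zero.1 ((smul_eq_zero.1 h4).resolve_right hx0)).symm
  by_contra hcon
  push Not at hcon
  obtain ⟨h1, h2⟩ := hcon
  obtain ⟨y1, hy1, hy1'⟩ : ∃ y, f y = 0 ∧ g y ≠ 0 := by
    by_contra hc
    push Not at hc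
    obtain ⟨a, ha⟩ := prop_of_ker hf hc
    exact h2 a ha
  obtain ⟨y2, hy2, hy2'⟩ : ∃ y, g y = 0 ∧ f y ≠ 0 := by
    by_contra hc
    push Not at hc
    obtain ⟨a, ha⟩ := prop_of_ker hg hc
    have ha0 : a ≠ 0 := by
      rintro rfl
      rw [zero_smul] at ha
      exact hf ha
    refine h2 a⁻¹ ?_
    rw [ha, smul_smul, inv_mul_cancel₀ ha0, one_smul]
  set z1 := (g y1)⁻¹ • y1 with hz1
  set z2 := (f y2)⁻¹ • y2 with hz2
  have e1 : f z1 = 0 := by rw [hz1, map_smul, hy1, smul_zero]
  have e2 : g z1 = 1 := by rw [hz1, map_smul, smul_eq_mul, inv_mul_cancel₀ hy1']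
  have e3 : g z2 = 0 := by rw [hz2, map_smul, hy2, smul_zero]
  have e4 : f z2 = 1 := by rw [hz2, map_smul, smul_eq_mul, inv_mul_cancel₀ hy2']
  have h3 := H z2
  rw [e3, zero_smul, add_zero, e4, one_smul, hc, one_smul] at h3
  have h4 : u = h z2 • w := add_left_cancel h3
  have e5 : g (z1 - f v • z2) = 1 := by rw [map_sub, e2, map_smul, e3, smul_zero, sub_zero]
  have e6 : f (z1 - f v • z2) = - f v := by
    rw [map_sub, e1, map_smul, e4, smul_eq_mul, mul_one, zero_sub]
  have h5 := H (z1 - f v • z2)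
  rw [e5, one_smul, map_add, e6, neg_add_cancel, zero_smul, add_zero, hc, one_smul] at h5
  have h6 := add_left_cancel h5
  have h7 : h z2 ≠ 0 := by
    intro h8
    rw [h8, zero_smul] at h4
    exact hu h4
  refine h1 (h (z1 - f v • z2) * (h z2)⁻¹) ?_
  rw [h4, smul_smul, mul_assoc, inv_mul_cancel₀ h7, mul_one]
  exact h6

end TT

/-! ### the involutions in `A` -/

variable {K : Type*} [Group K] {th : V → K} {O K0 : Subgroup K}

theorem exists_param [Finite K] (h : Sit th O K0) {M X : Type*} [Group M] [Finite M] (π : M →* K)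
    (hπ : Function.Surjective π) (f : X → M) (a : M → X → X) (hconj : ∀ g x, g * f x * g⁻¹ = f (a g x))
    (hsq : ∀ x, f x * f x = 1)
    (hfix : ∀ P : Subgroup M, IsPGroup 2 P → ∃ x, (∀ p ∈ P, a p x = x) ∧ π (f x) ≠ 1) (v : V) (hv : v ≠ 0) :
    ∃ x, π (f x) = th v := by
  classical
  have : Fact (Nat.Prime 2) := ⟨Nat.prime_two⟩
  obtain ⟨P⟩ : Nonempty (Sylow 2 M) := inferInstance
  obtain ⟨x, hx, hx1⟩ := hfix P P.2
  obtain ⟨S, hS⟩ := h.isPGroup_A.exists_le_sylow
  obtain ⟨g, hg⟩ := MulAction.exists_smul_eq K (P.mapSurjective hπ) S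
  have hc : ∀ s ∈ P.mapSurjective hπ, π (f x) * s = s * π (f x) := by
    intro s hs
    obtain ⟨p, hp, rfl⟩ := hs
    have h1 := hconj p x
    rw [hx p hp] at h1
    have h2 : p * f x = f x * p := mul_inv_eq_iff_eq_mul.1 h1
    rw [← map_mul, ← map_mul, h2]
  have h1 : g * π (f x) * g⁻¹ ∈ h.A := by
    refine h.mem_of_mul_self (fun u => ?_) ?_
    · have h2 : g⁻¹ * th u * g ∈ P.mapSurjective hπ := by
        have h3 : th u ∈ (g • P.mapSurjective hπ : Sylow 2 K) := by
          rw [hg]; exact hS (h.th_mem u)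
        rw [← SetLike.mem_coe, Sylow.coe_smul] at h3
        obtain ⟨y, hy, e⟩ := h3
        have e' : g * y * g⁻¹ = th u := e
        have e2 : g⁻¹ * th u * g = y := by rw [← e']; group
        rw [e2]
        exact hy
      have h4 := hc _ h2
      calc g * π (f x) * g⁻¹ * th u = g * (π (f x) * (g⁻¹ * th u * g)) * g⁻¹ := by group
        _ = g * ((g⁻¹ * th u * g) * π (f x)) * g⁻¹ := by rw [h4]
        _ = th u * (g * π (f x) * g⁻¹) := by group
    · have h5 : π (f x) * π (f x) = 1 := by rw [← map_mul, hsq, map_one]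
      calc g * π (f x) * g⁻¹ * (g * π (f x) * g⁻¹) = g * (π (f x) * π (f x)) * g⁻¹ := by group
        _ = 1 := by rw [h5]; group
  obtain ⟨u, hu⟩ := h1
  have hu0 : u ≠ 0 := by
    rintro rfl
    rw [h.zero] at hu
    apply hx1
    calc π (f x) = g⁻¹ * (g * π (f x) * g⁻¹) * g := by group
      _ = 1 := by rw [← hu]; group
  obtain ⟨k, -, hk⟩ := h.exists_conj hu0 hv
  obtain ⟨m, hm⟩ := hπ (k * g)
  refine ⟨a m x, ?_⟩
  rw [← hconj, map_mul, map_mul, map_inv, hm, ← hk, hu]
  group

/-! ### the unitary group -/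

section

open Cfsg.Agent.LieClassical.HermBasic Cfsg.Agent.LieClassical.HermSiegel Cfsg.Agent.H349.Transv

variable {F : Type*} [Field F] [Fintype F]

theorem act_tv {n : ℕ} (hF : Fintype.card F = 2 ^ 2) {u : Fin n → F} (hu : hermForm n F 2 u u = 0) (x : Fin n → F) :
    act (siegel hF u 0 (1 : F) (isSiegel hF hu)) x = x + hermForm n F 2 x u • u := by
  rw [act_siegel, smul_zero, add_zero, one_mul, herm_zero_right hF, sub_zero]

theorem no_U6 [Finite K] (hF : Fintype.card F = 2 ^ 2) (e : K ≃* PSU 6 F 2) (h : Sit th O K0) : False := by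
  classical
  have hfin : Finite (SU 6 F 2) := Subtype.finite
  let π : SU 6 F 2 →* K := e.symm.toMonoidHom.comp (QuotientGroup.mk' _)
  have hπ : Function.Surjective π := e.symm.surjective.comp (QuotientGroup.mk'_surjective _)
  have hker : ∀ g : SU 6 F 2, π g = 1 → ∃ c : F, ∀ x, act g x = c • x := by
    intro g hg
    have h2 : (QuotientGroup.mk' (Subgroup.center (SU 6 F 2))) g = 1 := by
      apply e.symm.injective
      rw [map_one]
      exact hg
    have h3 := (QuotientGroup.eq_one_iff _).1 h2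
    rw [LieClassical.SUBasic.mem_center_SU_iff hF (by norm_num)] at h3
    obtain ⟨c, hc1, hc2, hA⟩ := h3
    refine ⟨c, fun x => ?_⟩
    rw [hA, act_def]
    show (Matrix.diagonal (fun _ => c)) *ᵥ x = c • x
    funext i
    rw [Matrix.mulVec_diagonal]
    rfl
  let X := {u : Fin 6 → F // hermForm 6 F 2 u u = 0}
  let f : X → SU 6 F 2 := fun u => siegel hF (u : Fin 6 → F) 0 (1 : F) (isSiegel hF u.2)
  have hf : ∀ (u : X) x, act (f u) x = x + hermForm 6 F 2 x u • (u : Fin 6 → F) := fun u x => act_tv hF u.2 x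
  have hpar := exists_param h π hπ f (fun g u => ⟨act g u, by rw [herm_act]; exact u.2⟩)
    (fun g u => by
      rw [conj_siegel]
      exact siegel_congr hF _ _ rfl (act_zero g) rfl)
    (fun u => by
      apply ext_act
      intro x
      rw [act_mul, hf, hf, act_one, herm_add_left, herm_smul_left, u.2, mul_zero, add_zero, add_assoc, ← add_smul,
        ← two_mul, two_eq hF, zero_mul, zero_smul, add_zero])
    (fun P hP => by
      obtain ⟨u, hu0, hu, huP⟩ := exists_iso hF (by norm_num) P hP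
      refine ⟨⟨u, hu⟩, fun p hp => Subtype.ext (huP p hp), fun h1 => ?_⟩
      obtain ⟨c, hc⟩ := hker _ h1
      have h4 := hc u
      rw [hf] at h4
      change u + hermForm 6 F 2 u u • u = c • u at h4
      rw [hu, zero_smul, add_zero] at h4
      have hc1 : c = 1 := by
        have h5 : (1 - c) • u = 0 := by rw [sub_smul, one_smul, ← h4, sub_self]
        exact (sub_eq_zero.1 ((smul_eq_zero.1 h5).resolve_right hu0)).symm
      obtain ⟨x, hx⟩ := exists_herm_ne_zero hF hu0
      have h6 := hc x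
      rw [hf, hc1, one_smul] at h6
      have h7 := add_eq_left.1 h6
      rcases smul_eq_zero.1 h7 with h8 | h8
      · exact hx (herm_eq_zero_swap hF h8)
      · exact hu0 h8)
  -- two elements
  have h1 : (Pi.single (Sum.inl 0) 1 : V) ≠ 0 := by decide
  have h2 : (Pi.single (Sum.inl 1) 1 : V) ≠ 0 := by decide
  have h3 : (Pi.single (Sum.inl 0) 1 : V) + Pi.single (Sum.inl 1) 1 ≠ 0 := by decide
  have h12 : (Pi.single (Sum.inl 0) 1 : V) ≠ Pi.single (Sum.inl 1) 1 := by decide
  obtain ⟨u, hu⟩ := hpar _ h1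
  obtain ⟨v, hv⟩ := hpar _ h2
  obtain ⟨w, hw⟩ := hpar _ h3
  have hne0 : ∀ {x : X} {y : V}, y ≠ 0 → π (f x) = th y → (x : Fin 6 → F) ≠ 0 := by
    intro x y hy hxy hx0
    apply hy
    rw [← h.eq_one_iff, ← hxy]
    have : f x = 1 := by
      apply ext_act
      intro z
      rw [hf, hx0, smul_zero, add_zero, act_one]
    rw [this, map_one]
  have hu0 := hne0 h1 hu
  have hv0 := hne0 h2 hv
  rw [h.add, ← hu, ← hv, ← map_mul] at hw
  obtain ⟨c, hc⟩ := hker (f u * f v * (f w)⁻¹) (by rw [map_mul, map_inv, hw, mul_inv_cancel])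
  let φ : (Fin 6 → F) → ((Fin 6 → F) →ₗ[F] F) := fun v =>
    { toFun := fun x => hermForm 6 F 2 x v
      map_add' := fun x y => herm_add_left x y v
      map_smul' := fun c x => herm_smul_left c x v }
  have hφ : ∀ v x, φ v x = hermForm 6 F 2 x v := fun _ _ => rfl
  have hφ0 : ∀ v, v ≠ 0 → φ v ≠ 0 := by
    intro v hv h4
    obtain ⟨x, hx⟩ := exists_herm_ne_zero hF hv
    have h5 : φ v x = 0 := by rw [h4]; rfl
    exact hx (herm_eq_zero_swap hF h5)
  have H : ∀ x, (x + φ v x • (v : Fin 6 → F)) + φ u (x + φ v x • (v : Fin 6 → F)) • (u : Fin 6 → F) =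
      c • (x + φ w x • (w : Fin 6 → F)) := by
    intro x
    have h4 := hc (act (f w) x)
    rw [← act_mul, inv_mul_cancel_right, act_mul, hf, hf, hf] at h4
    exact h4
  have h5 := TT (by rw [Module.finrank_fintype_fun_eq_card, Fintype.card_fin]; norm_num) hu0 (hφ0 _ hu0) (hφ0 _ hv0) H
  -- proportional vectors
  have h6 : ∃ a : F, (v : Fin 6 → F) = a • (u : Fin 6 → F) := by
    rcases h5 with h5 | ⟨a, ha⟩
    · exact h5
    · refine ⟨a ^ 2, ?_⟩
      have ha4 : (a ^ 2) ^ 2 = a := by
        rw [← pow_mul]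
        have := FiniteField.pow_card a
        rwa [hF] at this
      have h7 : (v : Fin 6 → F) - a ^ 2 • (u : Fin 6 → F) = 0 := by
        by_contra h8
        obtain ⟨x, hx⟩ := exists_herm_ne_zero hF h8
        apply hx
        apply herm_eq_zero_swap hF
        rw [herm_sub_right hF, herm_smul_right, ha4, ← hφ, ← hφ, ha, LinearMap.smul_apply, smul_eq_mul, sub_self]
      exact sub_eq_zero.1 h7
  obtain ⟨a, ha⟩ := h6
  have ha0 : a ≠ 0 := by
    rintro rfl
    rw [zero_smul] at ha
    exact hv0 ha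
  have ha3 : a ^ 2 * a = 1 := by
    have := FiniteField.pow_card_sub_one_eq_one a ha0
    rw [hF] at this
    rw [← pow_succ]
    exact this
  have h8 : f u = f v := by
    apply ext_act
    intro x
    rw [hf, hf, ha, herm_smul_right, smul_smul, mul_assoc, mul_comm _ a, ← mul_assoc, ha3, one_mul]
  rw [h8] at hu
  exact h12 (h.inj (hu.symm.trans hv))

end

/-! ### the linear group -/

section

variable {F : Type*} [Field F] [Fintype F] {n : ℕ}

/-- transvections -/
def tr (u w : Fin n → F) (h : w ⬝ᵥ u = 0) : Matrix.SpecialLinearGroup (Fin n) F :=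
  ⟨1 + vecMulVec u w, by
    rw [vecMulVec_eq Unit, det_one_add_replicateCol_mul_replicateRow, h, add_zero]⟩

omit [Fintype F] in
theorem tr_mulVec (u w : Fin n → F) (h : w ⬝ᵥ u = 0) (x : Fin n → F) :
    (tr u w h : Matrix (Fin n) (Fin n) F) *ᵥ x = x + (w ⬝ᵥ x) • u := by
  change (1 + vecMulVec u w) *ᵥ x = _
  rw [add_mulVec, one_mulVec, vecMulVec_mulVec]
  simp

omit [Fintype F] in
theorem ext_mulVec {A B : Matrix.SpecialLinearGroup (Fin n) F}
    (h : ∀ x, (A : Matrix (Fin n) (Fin n) F) *ᵥ x = (B : Matrix (Fin n) (Fin n) F) *ᵥ x) : A = B := by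
  apply Subtype.ext
  apply Matrix.ext_of_mulVec_single
  intro i
  exact h _

theorem one_of_ne_zero (hF : Fintype.card F = 2) {c : F} (hc : c ≠ 0) : c = 1 := by
  have := FiniteField.pow_card_sub_one_eq_one c hc
  rwa [hF, show 2 - 1 = 1 from rfl, pow_one] at this

theorem add_self_eq (hF : Fintype.card F = 2) (c : F) : c + c = 0 := by
  have : ((2 : ℕ) : F) = 0 := by rw [← hF]; exact FiniteField.cast_card_eq_zero F
  rw [← two_mul]
  have h2 : (2 : F) = 0 := by exact_mod_cast this
  rw [h2, zero_mul]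

/-- the space of vectors killed by a functional has even order -/
theorem even_ker (hF : Fintype.card F = 2) (hn : 2 ≤ n) (L : (Fin n → F) →ₗ[F] F) : 2 ∣ Nat.card (LinearMap.ker L) := by
  have h1 := LinearMap.finrank_range_add_finrank_ker L
  rw [Module.finrank_fintype_fun_eq_card, Fintype.card_fin] at h1
  have h2 : Module.finrank F (LinearMap.range L) ≤ 1 := by
    have := Submodule.finrank_le (LinearMap.range L)
    rwa [Module.finrank_self] at this
  rw [Module.natCard_eq_pow_finrank (K := F), Nat.card_eq_fintype_card (α := F), hF]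
  exact dvd_pow_self 2 (by omega)

theorem no_L6 [Finite K] (hF : Fintype.card F = 2) (e : K ≃* Matrix.ProjectiveSpecialLinearGroup (Fin 6) F)
    (h : Sit th O K0) : False := by
  classical
  let π : Matrix.SpecialLinearGroup (Fin 6) F →* K := e.symm.toMonoidHom.comp (QuotientGroup.mk' _)
  have hπ : Function.Surjective π := e.symm.surjective.comp (QuotientGroup.mk'_surjective _)
  have hker : ∀ g : Matrix.SpecialLinearGroup (Fin 6) F, π g = 1 → g = 1 := by
    intro g hg
    have h2 : (QuotientGroup.mk' (Subgroup.center (Matrix.SpecialLinearGroup (Fin 6) F))) g = 1 := by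
      apply e.symm.injective
      rw [map_one]
      exact hg
    have h3 := (QuotientGroup.eq_one_iff _).1 h2
    rw [Matrix.SpecialLinearGroup.mem_center_iff] at h3
    obtain ⟨r, hr, hA⟩ := h3
    have hr0 : r ≠ 0 := by
      rintro rfl
      rw [Fintype.card_fin, zero_pow (by norm_num)] at hr
      exact zero_ne_one hr
    rw [one_of_ne_zero hF hr0, map_one] at hA
    exact Subtype.ext hA.symm
  have hinj : Function.Injective π := (injective_iff_map_eq_one _).2 hker
  let X := {p : (Fin 6 → F) × (Fin 6 → F) // p.2 ⬝ᵥ p.1 = 0}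
  let f : X → Matrix.SpecialLinearGroup (Fin 6) F := fun p => tr p.1.1 p.1.2 p.2
  have hf : ∀ (p : X) x, (f p : Matrix (Fin 6) (Fin 6) F) *ᵥ x = x + (p.1.2 ⬝ᵥ x) • p.1.1 :=
    fun p x => tr_mulVec _ _ p.2 x
  have hgg : ∀ (g : Matrix.SpecialLinearGroup (Fin 6) F) (w x : Fin 6 → F),
      (w ᵥ* ((g⁻¹ : Matrix.SpecialLinearGroup (Fin 6) F) : Matrix (Fin 6) (Fin 6) F)) ⬝ᵥ
        ((g : Matrix (Fin 6) (Fin 6) F) *ᵥ x) = w ⬝ᵥ x := by
    intro g w x
    rw [← dotProduct_mulVec, mulVec_mulVec, ← Matrix.SpecialLinearGroup.coe_mul, inv_mul_cancel,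
      Matrix.SpecialLinearGroup.coe_one, one_mulVec]
  have hpar := exists_param h π hπ f
    (fun g p => ⟨((g : Matrix (Fin 6) (Fin 6) F) *ᵥ p.1.1,
      p.1.2 ᵥ* ((g⁻¹ : Matrix.SpecialLinearGroup (Fin 6) F) : Matrix (Fin 6) (Fin 6) F)), by
        rw [hgg]; exact p.2⟩)
    (fun g p => by
      apply ext_mulVec
      intro x
      rw [Matrix.SpecialLinearGroup.coe_mul, Matrix.SpecialLinearGroup.coe_mul, ← mulVec_mulVec, ← mulVec_mulVec, hf,
        hf, mulVec_add, mulVec_smul, mulVec_mulVec, ← Matrix.SpecialLinearGroup.coe_mul, mul_inv_cancel,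
        Matrix.SpecialLinearGroup.coe_one, one_mulVec, dotProduct_mulVec])
    (fun p => by
      apply ext_mulVec
      intro x
      rw [Matrix.SpecialLinearGroup.coe_mul, ← mulVec_mulVec, hf, hf, Matrix.SpecialLinearGroup.coe_one, one_mulVec,
        dotProduct_add, dotProduct_smul, p.2, smul_zero, add_zero, add_assoc, ← add_smul, add_self_eq hF, zero_smul,
        add_zero])
    (fun P hP => by
      -- a fixed functional
      obtain ⟨w, hw, hwP⟩ := Cfsg.Agent.H349.Transv.exists_fixed hP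
        (fun (p : P) (w : Fin 6 → F) => w ᵥ* (((p : Matrix.SpecialLinearGroup (Fin 6) F)⁻¹ :
          Matrix.SpecialLinearGroup (Fin 6) F) : Matrix (Fin 6) (Fin 6) F))
        (fun x => by
          rw [OneMemClass.coe_one, inv_one, Matrix.SpecialLinearGroup.coe_one, vecMul_one])
        (fun p q x => by
          rw [vecMul_vecMul, ← Matrix.SpecialLinearGroup.coe_mul, MulMemClass.coe_mul, _root_.mul_inv_rev]) 0
        (fun p => zero_vecMul _)
        (by
          rw [Nat.card_eq_fintype_card, Fintype.card_fun, hF, Fintype.card_fin]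
          exact dvd_pow_self 2 (by norm_num))
      let L : (Fin 6 → F) →ₗ[F] F :=
        { toFun := fun x => w ⬝ᵥ x
          map_add' := fun x y => dotProduct_add _ _ _
          map_smul' := fun c x => dotProduct_smul _ _ _ }
      have hL : ∀ x, L x = w ⬝ᵥ x := fun _ => rfl
      obtain ⟨u, hu, huP⟩ := Cfsg.Agent.H349.Transv.exists_fixed hP
        (fun (p : P) (x : LinearMap.ker L) =>
          (⟨((p : Matrix.SpecialLinearGroup (Fin 6) F) : Matrix (Fin 6) (Fin 6) F) *ᵥ (x : Fin 6 → F), by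
            rw [LinearMap.mem_ker, hL]
            have h1 : w ⬝ᵥ (x : Fin 6 → F) = 0 := LinearMap.mem_ker.1 x.2
            have h2 := hgg p w x
            rw [h1, hwP p] at h2
            exact h2⟩ : LinearMap.ker L))
        (fun x => Subtype.ext (by
          change ((1 : Matrix.SpecialLinearGroup (Fin 6) F) : Matrix (Fin 6) (Fin 6) F) *ᵥ (x : Fin 6 → F) = x
          rw [Matrix.SpecialLinearGroup.coe_one, one_mulVec]))
        (fun p q x => Subtype.ext (by
          change ((p * q : Matrix.SpecialLinearGroup (Fin 6) F) : Matrix (Fin 6) (Fin 6) F) *ᵥ (x : Fin 6 → F) =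
            (p : Matrix (Fin 6) (Fin 6) F) *ᵥ ((q : Matrix (Fin 6) (Fin 6) F) *ᵥ (x : Fin 6 → F))
          rw [Matrix.SpecialLinearGroup.coe_mul, mulVec_mulVec])) 0
        (fun p => Subtype.ext (mulVec_zero ((p : Matrix.SpecialLinearGroup (Fin 6) F) : Matrix (Fin 6) (Fin 6) F)))
        (even_ker hF (by norm_num) L)
      have hu0 : (u : Fin 6 → F) ≠ 0 := fun h1 => hu (Subtype.ext h1)
      have huP' : ∀ p ∈ P, (p : Matrix (Fin 6) (Fin 6) F) *ᵥ (u : Fin 6 → F) = u :=
        fun p hp => congrArg Subtype.val (huP ⟨p, hp⟩)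
      refine ⟨⟨((u : Fin 6 → F), w), LinearMap.mem_ker.1 u.2⟩, fun p hp => Subtype.ext (Prod.ext (huP' p hp)
        (hwP ⟨p, hp⟩)), fun h1 => ?_⟩
      have h2 := hker _ h1
      obtain ⟨i, hi⟩ := Function.ne_iff.1 hw
      have h3 := congrArg (fun A : Matrix.SpecialLinearGroup (Fin 6) F =>
        (A : Matrix (Fin 6) (Fin 6) F) *ᵥ (Pi.single i 1)) h2
      simp only [hf, Matrix.SpecialLinearGroup.coe_one, one_mulVec, dotProduct_single, mul_one] at h3
      have h4 := add_eq_left.1 h3
      rcases smul_eq_zero.1 h4 with h5 | h5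
      · exact hi h5
      · exact hu0 h5)
  have : Nonempty X := ⟨⟨0, by
    change (0 : Fin 6 → F) ⬝ᵥ (0 : Fin 6 → F) = 0
    rw [zero_dotProduct]⟩⟩
  choose! x hx using hpar
  have hne : ∀ v : V, v ≠ 0 → (x v).1.1 ≠ 0 ∧ (x v).1.2 ≠ 0 := by
    intro v hv
    by_contra hc
    apply hv
    rw [← h.eq_one_iff, ← hx v hv]
    have h1 : f (x v) = 1 := by
      apply ext_mulVec
      intro y
      rw [hf, Matrix.SpecialLinearGroup.coe_one, one_mulVec]
      by_cases h2 : (x v).1.1 = 0
      · rw [h2, smul_zero, add_zero]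
      · have h3 : (x v).1.2 = 0 := by
          by_contra h3
          exact hc ⟨h2, h3⟩
        rw [h3, zero_dotProduct, zero_smul, add_zero]
    rw [h1, map_one]
  let φ : (Fin 6 → F) → ((Fin 6 → F) →ₗ[F] F) := fun w =>
    { toFun := fun x => w ⬝ᵥ x
      map_add' := fun x y => dotProduct_add _ _ _
      map_smul' := fun c x => dotProduct_smul _ _ _ }
  have hφ : ∀ w x, φ w x = w ⬝ᵥ x := fun _ _ => rfl
  have hφi : ∀ w w', φ w = φ w' → w = w' := by
    intro w w' h1
    funext i
    have h2 := LinearMap.congr_fun h1 (Pi.single i 1)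
    rw [hφ, hφ, dotProduct_single, dotProduct_single, mul_one, mul_one] at h2
    exact h2
  have hφ0 : ∀ w, w ≠ 0 → φ w ≠ 0 := by
    intro w hw h1
    apply hw
    apply hφi
    rw [h1]
    refine LinearMap.ext fun y => ?_
    rw [hφ, zero_dotProduct]
    rfl
  -- products
  have key : ∀ v v' : V, v ≠ 0 → v' ≠ 0 → v ≠ v' → (x v).1.1 = (x v').1.1 ∨ (x v).1.2 = (x v').1.2 := by
    intro v v' hv hv' hvv
    have hs : v + v' ≠ 0 := fun h1 => hvv ((add_eq_zero_iff _ _).1 h1)
    have h1 : f (x v) * f (x v') = f (x (v + v')) := by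
      apply hinj
      rw [map_mul, hx v hv, hx v' hv', hx _ hs, h.add]
    have H : ∀ y, (y + φ (x v').1.2 y • (x v').1.1) + φ (x v).1.2 (y + φ (x v').1.2 y • (x v').1.1) • (x v).1.1 =
        (1 : F) • (y + φ (x (v + v')).1.2 y • (x (v + v')).1.1) := by
      intro y
      have h2 := congrArg (fun A : Matrix.SpecialLinearGroup (Fin 6) F => (A : Matrix (Fin 6) (Fin 6) F) *ᵥ y) h1
      simp only [Matrix.SpecialLinearGroup.coe_mul, ← mulVec_mulVec, hf] at h2
      rw [one_smul]
      exact h2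
    rcases TT (by rw [Module.finrank_fintype_fun_eq_card, Fintype.card_fin]; norm_num) (hne v hv).1
      (hφ0 _ (hne v hv).2) (hφ0 _ (hne v' hv').2) H with ⟨a, ha⟩ | ⟨a, ha⟩
    · left
      have ha0 : a ≠ 0 := by
        rintro rfl
        rw [zero_smul] at ha
        exact (hne v' hv').1 ha
      rw [ha, one_of_ne_zero hF ha0, one_smul]
    · right
      have ha0 : a ≠ 0 := by
        rintro rfl
        rw [zero_smul] at ha
        exact hφ0 _ (hne v' hv').2 ha
      rw [one_of_ne_zero hF ha0, one_smul] at ha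
      exact (hφi _ _ ha).symm
  have hcardV : Nat.card V = Nat.card (Fin 6 → F) := by
    have h1 : Nat.card V = 64 := by simp [V]
    have h2 : Nat.card (Fin 6 → F) = 64 := by
      rw [Nat.card_eq_fintype_card, Fintype.card_fun, hF, Fintype.card_fin]; norm_num
    rw [h1, h2]
  have hxinj : ∀ v v' : V, v ≠ 0 → v' ≠ 0 → (x v).1.1 = (x v').1.1 → (x v).1.2 = (x v').1.2 → v = v' := by
    intro v v' hv hv' h1 h2
    apply h.inj
    rw [← hx v hv, ← hx v' hv', Subtype.ext (Prod.ext h1 h2)]
  obtain ⟨v1, hv1⟩ : ∃ v : V, v ≠ 0 := ⟨Pi.single (Sum.inl 0) 1, by decide⟩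
  by_cases hA : ∀ v, v ≠ 0 → (x v).1.1 = (x v1).1.1
  · -- all with the same centre
    let ψ : V → (Fin 6 → F) := fun v => if v = 0 then 0 else (x v).1.2
    have hψ0 : ψ 0 = 0 := if_pos rfl
    have hψ : ∀ v, v ≠ 0 → ψ v = (x v).1.2 := fun v hv => if_neg hv
    have hψi : Function.Injective ψ := by
      intro v v' h1
      by_cases hv : v = 0
      · by_cases hv' : v' = 0
        · rw [hv, hv']
        · rw [hv, hψ0, hψ _ hv'] at h1
          exact absurd h1.symm (hne v' hv').2
      · by_cases hv' : v' = 0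
        · rw [hv', hψ0, hψ _ hv] at h1
          exact absurd h1 (hne v hv).2
        · rw [hψ _ hv, hψ _ hv'] at h1
          exact hxinj v v' hv hv' ((hA v hv).trans (hA v' hv').symm) h1
    have hψs : Function.Surjective ψ := ((Nat.bijective_iff_injective_and_card ψ).2 ⟨hψi, hcardV⟩).2
    obtain ⟨i, hi⟩ := Function.ne_iff.1 (hne v1 hv1).1
    obtain ⟨v, hv⟩ := hψs (Pi.single i 1)
    have hv0 : v ≠ 0 := by
      rintro rfl
      rw [hψ0] at hv
      have := congrFun hv i
      simp at this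
    rw [hψ v hv0] at hv
    have h1 := (x v).2
    rw [hA v hv0, hv, single_dotProduct, one_mul] at h1
    exact hi h1
  by_cases hB : ∀ v, v ≠ 0 → (x v).1.2 = (x v1).1.2
  · let ψ : V → (Fin 6 → F) := fun v => if v = 0 then 0 else (x v).1.1
    have hψ0 : ψ 0 = 0 := if_pos rfl
    have hψ : ∀ v, v ≠ 0 → ψ v = (x v).1.1 := fun v hv => if_neg hv
    have hψi : Function.Injective ψ := by
      intro v v' h1
      by_cases hv : v = 0
      · by_cases hv' : v' = 0
        · rw [hv, hv']
        · rw [hv, hψ0, hψ _ hv'] at h1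
          exact absurd h1.symm (hne v' hv').1
      · by_cases hv' : v' = 0
        · rw [hv', hψ0, hψ _ hv] at h1
          exact absurd h1 (hne v hv).1
        · rw [hψ _ hv, hψ _ hv'] at h1
          exact hxinj v v' hv hv' h1 ((hB v hv).trans (hB v' hv').symm)
    have hψs : Function.Surjective ψ := ((Nat.bijective_iff_injective_and_card ψ).2 ⟨hψi, hcardV⟩).2
    obtain ⟨i, hi⟩ := Function.ne_iff.1 (hne v1 hv1).2
    obtain ⟨v, hv⟩ := hψs (Pi.single i 1)
    have hv0 : v ≠ 0 := by
      rintro rfl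
      rw [hψ0] at hv
      have := congrFun hv i
      simp at this
    rw [hψ v hv0] at hv
    have h1 := (x v).2
    rw [hB v hv0, hv, dotProduct_single, mul_one] at h1
    exact hi h1
  push Not at hA hB
  obtain ⟨v, hv, hvA⟩ := hA
  obtain ⟨v', hv', hvB⟩ := hB
  have h1 : (x v).1.2 = (x v1).1.2 := (key v v1 hv hv1 (by rintro rfl; exact hvA rfl)).resolve_left hvA
  have h2 : (x v').1.1 = (x v1).1.1 := (key v' v1 hv' hv1 (by rintro rfl; exact hvB rfl)).resolve_right hvB
  rcases key v v' hv hv' (by rintro rfl; exact hvA h2) with h3 | h3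
  · exact hvA (h3.trans h2)
  · exact hvB (h3.symm.trans h1)

end

end Cfsg.Agent.H318.SpSix.Transv
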