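import Cfsg.Agent.H318.SpSix.RadSit
import Cfsg.Agent.H318.SpSix.Transv
import Cfsg.Agent.H339.TwFNo
import Cfsg.Agent.S1163

/-!
# `Sit` does not occur in a group of Lie type of characteristic two (helper318)
-/

set_option autoImplicit false

namespace Cfsg.Agent.H318.SpSix.Row

open Subgroup Cfsg Cfsg.Agent.H336.SpSix Cfsg.Agent.KFacts.RgdLieCharP
  Cfsg.Agent.H318.SpSix.TwoPart Cfsg.Agent.H318.SpSix.RadSit Cfsg.Agent.H318.SpSix.Transv

variable {K : Type*} [Group K] {th : V → K} {O K0 : Subgroup K}

theorem exists_ncomm (h : Sit th O K0) : ∃ a b : K, a * b ≠ b * a := by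
  obtain ⟨v, hv⟩ := exists_ne
  obtain ⟨a, ha⟩ := exists_om hv
  obtain ⟨k, -, hk⟩ := h.exists_tv a
  refine ⟨k, th v, fun h1 => ?_⟩
  have h2 := hk v
  rw [tv_of_one (by rw [om_comm]; exact ha), h1, mul_inv_cancel_right] at h2
  have h3 := h.inj h2
  have h4 : a = 0 := by
    have := left_eq_add.1 h3
    exact this
  rw [h4, om_zero_right] at ha
  exact zero_ne_one ha

theorem dvd_card [Finite K] (h : Sit th O K0) {d : ℕ} (hd : d ∣ 1451520 * 64) : d ∣ Nat.card K := hd.trans h.card_dvd

/-- elements of order 3 and 5 commuting with an involution of `A` -/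
theorem dvd_centralizer [Finite K] (h : Sit th O K0) {v : V} (hv : v ≠ 0) :
    23040 * 64 ∣ Nat.card (centralizer ({th v} : Set K)) := by
  classical
  let N := normalizer (h.A : Set K)
  letI : MulAction N K := MulAction.compHom K ((MulAut.conj (G := K)).comp N.subtype)
  have hact : ∀ (n : N) (x : K), n • x = n * x * (n : K)⁻¹ := fun _ _ => rfl
  have h1 : MulAction.orbit N (th v) = th '' ({0}ᶜ : Set V) := by
    ext x
    constructor
    · rintro ⟨n, rfl⟩
      obtain ⟨u, hu⟩ := h.mem_normalizer.1 n.2 v
      refine ⟨u, ?_, ?_⟩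
      · intro hu0
        rw [Set.mem_singleton_iff] at hu0
        rw [hu0, h.zero, mul_inv_eq_one, mul_eq_left, h.eq_one_iff] at hu
        exact hv hu
      · exact hu.symm
    · rintro ⟨u, hu, rfl⟩
      obtain ⟨k, hk, hk'⟩ := h.exists_conj hv hu
      exact ⟨⟨k, h.K0_le hk⟩, hk'⟩
  have h2 : (MulAction.stabilizer N (th v)).index = 63 := by
    rw [MulAction.index_stabilizer, h1, Set.ncard_image_of_injective _ h.inj, Set.ncard_compl, Set.ncard_singleton]
    simp [V]
  have h3 := (MulAction.stabilizer N (th v)).card_mul_index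
  rw [h2] at h3
  have h4 : 1451520 * 64 ∣ Nat.card (MulAction.stabilizer N (th v)) * 63 := by
    rw [h3]; exact h.card_dvd_normalizer
  have h5 : 23040 * 64 ∣ Nat.card (MulAction.stabilizer N (th v)) := by
    rw [show 1451520 * 64 = (23040 * 64) * 63 by norm_num] at h4
    exact Nat.dvd_of_mul_dvd_mul_right (by norm_num) h4
  refine h5.trans ?_
  have h6 : (MulAction.stabilizer N (th v)).map N.subtype ≤ centralizer ({th v} : Set K) := by
    rintro _ ⟨n, hn, rfl⟩
    have h7 : n • th v = th v := hn
    rw [hact, mul_inv_eq_iff_eq_mul] at h7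
    exact mem_centralizer_singleton_iff.2 h7
  have h7 := Subgroup.card_dvd_of_le h6
  rwa [Nat.card_congr (equivMapOfInjective _ _ (subtype_injective _)).toEquiv.symm] at h7

theorem not_three_dvd_sz {m : ℕ} : ¬ 3 ∣ (2 ^ (2 * m + 1)) ^ 2 * (2 ^ (2 * m + 1) - 1) * ((2 ^ (2 * m + 1)) ^ 2 + 1) := by
  have h1 : 2 ^ (2 * m + 1) % 3 = 2 := by
    rw [pow_succ, pow_mul, Nat.mul_mod, Nat.pow_mod]
    norm_num
  have h2 : 1 ≤ 2 ^ (2 * m + 1) := Nat.one_le_two_pow
  generalize 2 ^ (2 * m + 1) = q at h1 h2
  rw [Nat.prime_three.dvd_mul, Nat.prime_three.dvd_mul]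
  rintro ((h3 | h3) | h3)
  · have := Nat.prime_three.dvd_of_dvd_pow h3
    omega
  · omega
  · have h4 : (q ^ 2 + 1) % 3 = 2 := by
      rw [Nat.add_mod, Nat.pow_mod, h1]
    omega

theorem row_char2 [Finite K] [IsSimpleGroup K] (hK : IsLieTypeChar 2 K ∨ IsTits K) (h : Sit th O K0) : False := by
  classical
  have hcl : ∀ {d : ℕ}, d ∣ 1451520 * 64 → ∀ {k n : ℕ}, k * Nat.card K = n → d ∣ n := by
    intro d hd k n e
    rw [← e]
    exact (dvd_card h hd).mul_left k
  rcases hK with hK | hK
  · by_cases hf : IsLieFilt 2 K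
    · have h15 := two_part_eq hf (exists_ncomm h) h
      rcases two_part hf with ⟨F, _, _, f, n, hf1, hF, hn, ⟨e⟩, h1⟩ | ⟨F, _, _, f, n, q, hf1, hq, hF, hn, ⟨e⟩, h1⟩ |
        ⟨f, m, hf1, hm, h1⟩ | ⟨f, m, hf1, hm, h1⟩ | ⟨f, hf1, h1⟩
      · rw [h15] at h1
        have hn6 : n ≤ 6 := by
          by_contra hn7
          push Not at hn7
          have h2 : 21 ≤ n * (n - 1) / 2 := by
            rw [Nat.le_div_iff_mul_le (by norm_num)]
            calc 21 * 2 = 7 * 6 := by norm_num
              _ ≤ n * (n - 1) := Nat.mul_le_mul hn7 (by omega)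
          nlinarith
        interval_cases n <;> norm_num at h1
        · -- n = 2
          have hf15 : f = 15 := by omega
          subst hf15
          have h2 := Cfsg.Agent.S0243.result hF 2 le_rfl
          rw [← Nat.card_congr e.toEquiv, ← mul_assoc] at h2
          have h3 := hcl (d := 5) (by norm_num) h2
          rw [Fin.prod_univ_two] at h3
          norm_num at h3
        · have hf5 : f = 5 := by omega
          subst hf5
          have h2 := Cfsg.Agent.S0243.result hF 3 (by norm_num)
          rw [← Nat.card_congr e.toEquiv, ← mul_assoc] at h2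
          have h3 := hcl (d := 5) (by norm_num) h2
          rw [Fin.prod_univ_three] at h3
          norm_num at h3
        · omega
        · omega
        · have hf1' : f = 1 := by omega
          subst hf1'
          exact no_L6 (by rw [hF, pow_one]) e h
      · rw [h15] at h1
        have hn6 : n ≤ 6 := by
          by_contra hn7
          push Not at hn7
          have h2 : 21 ≤ n * (n - 1) / 2 := by
            rw [Nat.le_div_iff_mul_le (by norm_num)]
            calc 21 * 2 = 7 * 6 := by norm_num
              _ ≤ n * (n - 1) := Nat.mul_le_mul hn7 (by omega)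
          nlinarith
        subst hq
        interval_cases n <;> norm_num at h1
        · have hf5 : f = 5 := by omega
          subst hf5
          have h2 := Cfsg.Agent.S0280.result hF 3 (by norm_num)
          rw [← Nat.card_congr e.toEquiv, ← mul_assoc] at h2
          have h3 := hcl (d := 5) (by norm_num) h2
          rw [Finset.prod_range_succ, Finset.prod_range_succ, Finset.prod_range_succ, Finset.prod_range_zero] at h3
          norm_num at h3
        · omega
        · omega
        · have hf1' : f = 1 := by omega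
          subst hf1'
          exact no_U6 (by rw [hF, pow_one]) (by rw [pow_one] at e; exact e) h
      · rw [h15] at h1
        have hm3 : m ≤ 3 := by
          by_contra hm4
          push Not at hm4
          nlinarith
        interval_cases m <;> omega
      · rw [h15] at h1
        have hm4 : m ≤ 4 := by
          by_contra hm5
          push Not at hm5
          have h2 : 5 * 4 ≤ m * (m - 1) := Nat.mul_le_mul hm5 (by omega)
          nlinarith
        have : m = 4 := by omega
        subst this
        omega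
      · rw [h15] at h1
        omega
    · have h2 : Lie.IsoSuzuki K ∨ Lie.Iso2F4 K := by
        rcases hK with h1 | h1 | h1 | h1 | h1 | h1 | h1 | h1 | ⟨-, h1⟩ | ⟨-, h1⟩ | ⟨h1, -⟩
        · exact absurd (Or.inl h1) hf
        · exact absurd (Or.inr (Or.inl h1)) hf
        · exact absurd (Or.inr (Or.inr (Or.inl h1))) hf
        · exact absurd (Or.inr (Or.inr (Or.inr (Or.inl h1)))) hf
        · exact absurd (Or.inr (Or.inr (Or.inr (Or.inr (Or.inl h1))))) hf
        · exact absurd (Or.inr (Or.inr (Or.inr (Or.inr (Or.inr (Or.inl h1)))))) hf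
        · exact absurd (Or.inr (Or.inr (Or.inr (Or.inr (Or.inr (Or.inr (Or.inl h1))))))) hf
        · exact absurd (Or.inr (Or.inr (Or.inr (Or.inr (Or.inr (Or.inr (Or.inr h1))))))) hf
        · exact Or.inl h1
        · exact Or.inr h1
        · exact absurd h1 (by norm_num)
      rcases h2 with ⟨F, _, _, m, hm, hF, ⟨e⟩⟩ | h2
      · have h3 := dvd_card h (d := 3) (by norm_num)
        rw [Nat.card_congr e.toEquiv, (Cfsg.Agent.S1163.result hm hF).1] at h3
        exact not_three_dvd_sz h3
      · obtain ⟨v, hv⟩ := exists_ne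
        have h3 := dvd_centralizer h hv
        have : Fact (Nat.Prime 3) := ⟨Nat.prime_three⟩
        have : Fact (Nat.Prime 5) := ⟨Nat.prime_five⟩
        obtain ⟨a, ha⟩ := exists_prime_orderOf_dvd_card' 3 ((show 3 ∣ 23040 * 64 by norm_num).trans h3)
        obtain ⟨b, hb⟩ := exists_prime_orderOf_dvd_card' 5 ((show 5 ∣ 23040 * 64 by norm_num).trans h3)
        rw [← Subgroup.orderOf_coe] at ha hb
        exact Cfsg.Agent.H339.TwFNo.no_three_five h2 (h.sq v) (fun h4 => hv ((h.eq_one_iff v).1 h4)) ha hb
          (mem_centralizer_singleton_iff.1 a.2) (mem_centralizer_singleton_iff.1 b.2)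
  · have h1 := dvd_card h (d := 7) (by norm_num)
    rw [hK.2] at h1
    norm_num at h1

end Cfsg.Agent.H318.SpSix.Row
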